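import Groth.Agent.BlowPerfLib.Koszul
import Groth.Agent.BlowUpLib.RegSmooth
import Groth.Agent.TransLib.RelKoszul
import Mathlib

/-!
# The charts of the blow-up of a smooth algebra in a smooth centre are smooth
-/

set_option autoImplicit false
set_option backward.isDefEq.respectTransparency false
set_option backward.isDefEq.respectTransparency.types false
set_option linter.style.haveILetI false

universe u

open KoszDetLib MvPolynomial TensorProduct

namespace BlowSmoothLib

variable {R A : Type u} [CommRing R] [CommRing A] [Algebra R A]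

theorem exists_coordinates {c : ℕ} (f : Fin c → A) (hf : IsExactK f) (i : Fin c) :
    ∀ (K : Ideal A) (_ : K = Ideal.span (Set.range f)),
      ∃ φ : K.Cotangent →ₗ[A] A ⧸ Ideal.span (Set.range f), ∀ (k : Fin c) (h : f k ∈ K),
        φ (K.toCotangent ⟨f k, h⟩) = if i = k then 1 else 0 := by
  rintro K rfl
  obtain ⟨li, sp⟩ := TransLib.cotangent_basis_of_isExactK f hf
  let b := Module.Basis.mk li sp.ge
  refine ⟨(b.coord i).restrictScalars A, fun k h => ?_⟩
  show b.coord i _ = _
  rw [show (Ideal.span (Set.range f)).toCotangent ⟨f k, h⟩ = b k from (Module.Basis.mk_apply li sp.ge k).symm,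
    Module.Basis.coord_apply, Module.Basis.repr_self, Finsupp.single_apply]
  exact if_congr eq_comm rfl rfl

/-- Derivations dual to exact equations of a smooth subscheme. -/
theorem exists_derivations [Algebra.FormallySmooth R A] {c : ℕ} (f : Fin c → A) (hf : IsExactK f)
    [Algebra.FormallySmooth R (A ⧸ Ideal.span (Set.range f))] :
    ∃ δ : Fin c → Derivation R A A, ∀ i k, δ i (f k) - (if i = k then 1 else 0) ∈ Ideal.span (Set.range f) := by
  classical
  let I := Ideal.span (Set.range f)
  let B := A ⧸ I
  have hsurj : Function.Surjective (algebraMap A B) := Ideal.Quotient.mk_surjective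
  obtain ⟨l, hl⟩ := (Algebra.FormallySmooth.iff_split_injection (R := R) (P := A) hsurj).mp inferInstance
  have hker : RingHom.ker (algebraMap A B) = I := Ideal.mk_ker
  choose φ hφ using fun i => exists_coordinates f hf i _ hker
  let ψ : Fin c → Ω[A⁄R] →ₗ[A] B := fun i => φ i ∘ₗ l ∘ₗ TensorProduct.mk A B Ω[A⁄R] 1
  choose ψ' hψ' using fun i => Module.projective_lifting_property (Algebra.linearMap A B) (ψ i) hsurj
  refine ⟨fun i => (ψ' i).compDer (KaehlerDifferential.D R A), fun i k => ?_⟩
  rw [← Ideal.Quotient.eq]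
  have hk : f k ∈ RingHom.ker (algebraMap A B) := hker.ge (Ideal.subset_span ⟨k, rfl⟩)
  have h1 : algebraMap A B (ψ' i (KaehlerDifferential.D R A (f k))) = ψ i (KaehlerDifferential.D R A (f k)) :=
    LinearMap.congr_fun (hψ' i) _
  have h2 := LinearMap.congr_fun hl (Ideal.toCotangent _ ⟨f k, hk⟩)
  rw [LinearMap.comp_apply, KaehlerDifferential.kerCotangentToTensor_toCotangent, LinearMap.id_apply] at h2
  refine h1.trans ?_
  show φ i (l ((1 : B) ⊗ₜ[A] KaehlerDifferential.D R A (f k))) = _
  rw [h2, hφ i k hk]
  split_ifs <;> simp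

/-- The derivation with given values on the coefficients and on the variables. -/
theorem exists_derivation_mvPolynomial {σ : Type} {C : Type u} [CommRing C] [Algebra R C]
    [Algebra (MvPolynomial σ A) C] [IsScalarTower R (MvPolynomial σ A) C] (δ : Derivation R A A) (h : σ → C) :
    ∃ D : Derivation R (MvPolynomial σ A) C,
      (∀ a, D (MvPolynomial.C a) = algebraMap (MvPolynomial σ A) C (MvPolynomial.C (δ a))) ∧ ∀ m, D (X m) = h m := by
  let ι : A →+* C := (algebraMap (MvPolynomial σ A) C).comp MvPolynomial.C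
  let Φ₀ : A →+* TrivSqZeroExt C C :=
    { toFun := fun a => TrivSqZeroExt.inl (ι a) + TrivSqZeroExt.inr (ι (δ a))
      map_one' := by ext <;> simp
      map_zero' := by ext <;> simp
      map_add' := fun a b => by ext <;> simp
      map_mul' := fun a b => by
        ext
        · simp
        · simp [map_add, map_mul]
          ring }
  let Φ : MvPolynomial σ A →+* TrivSqZeroExt C C := eval₂Hom Φ₀ fun m =>
    TrivSqZeroExt.inl (algebraMap (MvPolynomial σ A) C (X m)) + TrivSqZeroExt.inr (h m)
  have hfst : ∀ x, (Φ x).fst = algebraMap (MvPolynomial σ A) C x := by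
    intro x
    induction x using MvPolynomial.induction_on with
    | C a => simp [Φ, Φ₀, ι]
    | add p q hp hq => simp [hp, hq]
    | mul_X p m hp =>
      rw [map_mul, TrivSqZeroExt.fst_mul, hp, map_mul]
      simp [Φ]
  have hR : ∀ r : R, (Φ (algebraMap R (MvPolynomial σ A) r)).snd = 0 := fun r => by
    rw [IsScalarTower.algebraMap_apply R A (MvPolynomial σ A), MvPolynomial.algebraMap_eq]
    simp [Φ, Φ₀]
  refine ⟨Derivation.mk'
    { toFun := fun x => (Φ x).snd
      map_add' := fun x y => by simp
      map_smul' := fun r x => ?_ } fun x y => ?_, fun a => ?_, fun m => ?_⟩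
  · show (Φ (r • x)).snd = r • (Φ x).snd
    rw [Algebra.smul_def r x, map_mul, TrivSqZeroExt.snd_mul, hR, hfst, smul_zero, add_zero, smul_eq_mul,
      Algebra.smul_def r (Φ x).snd, IsScalarTower.algebraMap_apply R (MvPolynomial σ A) C]
  · show (Φ (x * y)).snd = x • (Φ y).snd + y • (Φ x).snd
    rw [map_mul, TrivSqZeroExt.snd_mul, hfst, hfst, Algebra.smul_def x, Algebra.smul_def y]
    simp [mul_comm]
  · show (Φ (MvPolynomial.C a)).snd = _
    rw [show Φ (MvPolynomial.C a) = Φ₀ a from eval₂Hom_C _ _ _]
    show (TrivSqZeroExt.inl (ι a) + TrivSqZeroExt.inr (ι (δ a)) : TrivSqZeroExt C C).snd = ι (δ a)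
    rw [TrivSqZeroExt.snd_add, TrivSqZeroExt.snd_inl, TrivSqZeroExt.snd_inr, zero_add]
  · show (Φ (X m)).snd = _
    simp [Φ]

/-- A quotient of a formally smooth algebra by equations with dual derivations is formally smooth. -/
theorem formallySmooth_of_derivations {P C : Type u} [CommRing P] [CommRing C] [Algebra R P] [Algebra R C]
    [Algebra P C] [IsScalarTower R P C] [Algebra.FormallySmooth R P]
    (hsurj : Function.Surjective (algebraMap P C)) {n : ℕ} (g : Fin n → P)
    (hker : RingHom.ker (algebraMap P C) = Ideal.span (Set.range g))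
    (D : Fin n → Derivation R P C) (hD : ∀ i k, D i (g k) = if i = k then 1 else 0) :
    Algebra.FormallySmooth R C := by
  classical
  refine (Algebra.FormallySmooth.iff_split_injection hsurj).mpr ?_
  let K := RingHom.ker (algebraMap P C)
  let γ : Fin n → K := fun k => ⟨g k, hker.ge (Ideal.subset_span ⟨k, rfl⟩)⟩
  have hτ : ∀ i, ∃ τ : C →ₗ[P] K.Cotangent, ∀ p, τ (algebraMap P C p) = p • K.toCotangent (γ i) := by
    intro i
    let e : (P ⧸ K) ≃ₗ[P] C := (Ideal.quotientKerAlgEquivOfSurjective (f := Algebra.ofId P C) hsurj).toLinearEquiv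
    let L : (P ⧸ K) →ₗ[P] K.Cotangent := Submodule.liftQ (K : Submodule P P)
      (LinearMap.toSpanSingleton P _ (K.toCotangent (γ i))) (fun x hx => by
        show x • K.toCotangent _ = 0
        rw [← map_smul, Ideal.toCotangent_eq_zero, pow_two]
        exact Ideal.mul_mem_mul hx (γ i).2)
    refine ⟨L ∘ₗ e.symm.toLinearMap, fun p => ?_⟩
    have : e.symm (algebraMap P C p) = Ideal.Quotient.mk K p := (LinearEquiv.symm_apply_eq e).mpr rfl
    rw [LinearMap.comp_apply, LinearEquiv.coe_coe, this]
    rfl
  choose τ hτ using hτ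
  let ev : Fin n → C ⊗[P] Ω[P⁄R] →ₗ[P] C := fun i =>
    ((D i).liftKaehlerDifferential.liftBaseChange C).restrictScalars P
  refine ⟨∑ i, τ i ∘ₗ ev i, LinearMap.ext fun y => ?_⟩
  obtain ⟨⟨y, hy⟩, rfl⟩ := K.toCotangent_surjective y
  obtain ⟨a, rfl⟩ := Ideal.mem_span_range_iff_exists_fun.mp (hker.le hy)
  have hsum : (⟨∑ k, a k * g k, hy⟩ : K) = ∑ k, a k • γ k :=
    Subtype.ext (by rw [AddSubmonoidClass.coe_finsetSum]; rfl)
  rw [LinearMap.id_apply, LinearMap.comp_apply, hsum, map_sum, map_sum, map_sum]
  refine Finset.sum_congr rfl fun k _ => ?_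
  rw [map_smul, map_smul, map_smul]
  congr 1
  rw [KaehlerDifferential.kerCotangentToTensor_toCotangent, LinearMap.sum_apply]
  have hev : ∀ i, ev i ((1 : C) ⊗ₜ[P] KaehlerDifferential.D R P (g k)) = algebraMap P C (if i = k then 1 else 0) := by
    intro i
    show (1 : C) • (D i).liftKaehlerDifferential (KaehlerDifferential.D R P (g k)) = _
    rw [one_smul, Derivation.liftKaehlerDifferential_comp_D, hD, apply_ite (algebraMap P C), map_one, map_zero]
  rw [Finset.sum_eq_single k]
  · rw [LinearMap.comp_apply, hev, hτ, if_pos rfl, one_smul]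
  · intro i _ hik
    rw [LinearMap.comp_apply, hev, if_neg hik, map_zero, map_zero]
  · exact fun h => absurd (Finset.mem_univ k) h

/-- The first chart of the blow-up of a smooth algebra in a smooth centre. -/
theorem smooth_first [Algebra.Smooth R A] {n : ℕ} (f : Fin (n + 1) → A) (hf : IsExactK f)
    (δ : Fin (n + 1) → Derivation R A A)
    (hδ : ∀ i k, δ i (f k) - (if i = k then 1 else 0) ∈ Ideal.span (Set.range f)) :
    Algebra.Smooth R (BlowUp.affineAlgebra A (Ideal.span (Set.range f)) (f 0)) := by
  classical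
  let C' := BlowUp.affineAlgebra A (Ideal.span (Set.range f)) (f 0)
  let P := MvPolynomial (Fin n) A
  let φ : P →ₐ[A] C' := aeval fun j => BlowUpLib.chartVar f 0 j.succ
  have hφ : Function.Surjective φ := fun y => by
    obtain ⟨p, rfl⟩ := BlowUpLib.aeval_chartVar_surjective f 0 y
    refine ⟨rename (fun j : {j : Fin (n + 1) // j ≠ 0} => j.1.pred j.2) p, ?_⟩
    show aeval _ (rename _ p) = _
    rw [aeval_rename]
    congr 1
    exact congrArg (fun v => aeval (R := A) v) (funext fun j =>
      congrArg (BlowUpLib.chartVar f 0) (Fin.succ_pred j.1 j.2))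
  have hg : ∀ j, φ (BlowPerfLib.g f j) = 0 := fun j => by
    show φ (BlowPerfLib.g f j) = 0
    rw [BlowPerfLib.g, map_sub, map_mul, aeval_C, aeval_C, aeval_X, mul_comm, BlowUpLib.chartVar_mul, sub_self]
  have hker : RingHom.ker φ.toRingHom = Ideal.span (Set.range (BlowPerfLib.g f)) := by
    refine le_antisymm (fun h hh => ?_) (Ideal.span_le.mpr ?_)
    · refine BlowPerfLib.mem_span_of_eval_eq_zero f (Localization.Away (f 0)) hf h ?_
      have h2 : C'.val (φ h) = 0 := by
        rw [show φ h = 0 from hh, map_zero]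
      rw [← AlgHom.comp_apply, MvPolynomial.comp_aeval] at h2
      have e : (fun j : Fin n => C'.val (BlowUpLib.chartVar f 0 j.succ)) = BlowPerfLib.pt f (Localization.Away (f 0)) := by
        funext j
        apply (IsLocalization.Away.algebraMap_isUnit (S := Localization.Away (f 0)) (f 0)).mul_right_cancel
        refine Eq.trans (IsLocalization.mk'_spec (Localization.Away (f 0)) (f j.succ) ⟨f 0, Submonoid.mem_powers (f 0)⟩) ?_
        rw [BlowPerfLib.pt, mul_right_comm, mul_comm (IsLocalization.Away.invSelf (f 0)),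
          IsLocalization.Away.mul_invSelf, one_mul]
      rw [e] at h2
      exact h2
    · rintro _ ⟨j, rfl⟩
      exact hg j
  letI : Algebra P C' := φ.toRingHom.toAlgebra
  haveI : IsScalarTower R P C' := IsScalarTower.of_algebraMap_eq fun r => by
    rw [IsScalarTower.algebraMap_apply R A P, IsScalarTower.algebraMap_apply R A C']
    exact (φ.commutes _).symm
  haveI : Algebra.Smooth A P := ⟨inferInstance, inferInstance⟩
  haveI : Algebra.Smooth R P := Algebra.Smooth.comp R A P
  haveI : Algebra.FinitePresentation R P := Algebra.Smooth.finitePresentation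
  refine ⟨?_, ?_⟩
  swap
  · refine Algebra.FinitePresentation.of_surjective (f := φ.restrictScalars R) hφ ?_
    show (RingHom.ker φ.toRingHom).FG
    rw [hker]
    exact Submodule.fg_span (Set.finite_range _)
  -- the entries to be corrected are multiples of `f 0`
  have hmul : Ideal.span (Set.range f) ≤ (Ideal.span {algebraMap A C' (f 0)}).comap (algebraMap A C') := by
    rw [Ideal.span_le]
    rintro _ ⟨j, rfl⟩
    rw [SetLike.mem_coe, Ideal.mem_comap, ← BlowUpLib.chartVar_mul f 0 j]
    exact Ideal.mul_mem_left _ _ (Ideal.mem_span_singleton_self _)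
  have hh : ∀ i k : Fin n, ∃ h : C', h * algebraMap A C' (f 0) =
      algebraMap A C' (δ i.succ (f k.succ)) - (if i = k then 1 else 0) -
        φ (X k) * algebraMap A C' (δ i.succ (f 0)) := by
    intro i k
    refine Ideal.mem_span_singleton'.mp ?_
    have h1 := hmul (hδ i.succ k.succ)
    have h2 := hmul (hδ i.succ 0)
    rw [if_neg (Fin.succ_ne_zero i), sub_zero, Ideal.mem_comap] at h2
    rw [Ideal.mem_comap, map_sub] at h1
    simp only [Fin.succ_inj, apply_ite (algebraMap A C'), map_one, map_zero] at h1
    exact Submodule.sub_mem _ h1 (Ideal.mul_mem_left _ _ h2)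
  choose h hh using hh
  choose D hDC hDX using fun i : Fin n => exists_derivation_mvPolynomial (R := R) (σ := Fin n) (C := C') (δ i.succ) (h i)
  have hD : ∀ i k, D i (BlowPerfLib.g f k) = -(if i = k then 1 else 0) := by
    intro i k
    have e : ∀ a, algebraMap P C' (MvPolynomial.C a) = algebraMap A C' a := fun a => φ.commutes a
    rw [BlowPerfLib.g, map_sub, (D i).leibniz, hDC, hDC, hDX, Algebra.smul_def, Algebra.smul_def, e, e, e,
      mul_comm, hh]
    show _ - _ + φ (X k) * _ - _ = _
    ring
  exact formallySmooth_of_derivations hφ (BlowPerfLib.g f) hker (fun i => -D i) fun i k => by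
    rw [Derivation.neg_apply, hD, neg_neg]

/-- Every chart of the blow-up of a smooth algebra in a smooth centre is smooth. -/
theorem smooth_chart [Algebra.Smooth R A] {r : ℕ} (f : Fin r → A) (hf : IsExactK f)
    [Algebra.FormallySmooth R (A ⧸ Ideal.span (Set.range f))] (j : Fin r) :
    Algebra.Smooth R (BlowUp.affineAlgebra A (Ideal.span (Set.range f)) (f j)) := by
  cases r with
  | zero => exact j.elim0
  | succ n =>
    have hr : Set.range (f ∘ Equiv.swap 0 j) = Set.range f := by
      rw [Set.range_comp, Equiv.range_eq_univ, Set.image_univ]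
    have key : ∀ (J : Ideal A) (a : A), J = Ideal.span (Set.range (f ∘ Equiv.swap 0 j)) →
        a = (f ∘ Equiv.swap 0 j) 0 → Algebra.Smooth R (BlowUp.affineAlgebra A J a) := by
      rintro J a rfl rfl
      haveI : Algebra.FormallySmooth R (A ⧸ Ideal.span (Set.range (f ∘ Equiv.swap 0 j))) := by
        rw [hr]; infer_instance
      have hf' := KRLib.isExactK_comp_equiv hf (Equiv.swap 0 j)
      obtain ⟨δ, hδ⟩ := exists_derivations (R := R) _ hf'
      exact smooth_first _ hf' δ hδ
    exact key _ _ (by rw [hr]) (by simp)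

end BlowSmoothLib
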