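import Groth.Agent.BlowSmoothLib.Algebra
import Groth.Agent.EffCartLib.Basic
import Groth.Agent.RelRegLib.Scheme

/-!
# The blow-up of a smooth scheme in a smooth centre is smooth
-/

set_option autoImplicit false
set_option backward.isDefEq.respectTransparency false
set_option backward.isDefEq.respectTransparency.types false
set_option linter.style.haveILetI false

universe u

open CategoryTheory CategoryTheory.Limits AlgebraicGeometry TopologicalSpace

namespace BlowSmoothLib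

open KoszDetLib

/-- Affine charts of a smooth pair. -/
theorem exists_smooth_pair_chart {Z X S : Scheme.{u}} (q : X ⟶ S) [Smooth q] (i : Z ⟶ X) [IsClosedImmersion i]
    [Smooth (i ≫ q)] (y : Z) :
    ∃ (U : X.Opens) (hU : IsAffineOpen U) (V : S.Opens) (hV : IsAffineOpen V) (e : U ≤ q ⁻¹ᵁ V), i y ∈ U ∧
      ∃ (r : ℕ) (f : Fin r → Γ(X, U)), IsExactK f ∧ Ideal.span (Set.range f) = i.ker.ideal ⟨U, hU⟩ ∧
        (q.appLE V U e).hom.Smooth ∧
        (letI := (q.appLE V U e).hom.toAlgebra; Algebra.FormallySmooth Γ(S, V) (Γ(X, U) ⧸ Ideal.span (Set.range f))) := by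
  obtain ⟨-, hloc⟩ := RelRegLib.isRegularClosedImmersion_of_syntomic q i
    ((TransLib.isSyntomicMor_iff _).2 (TransLib.syntMor_of_smooth (i ≫ q)))
  obtain ⟨U₀, hU₀, hyU₀, rs, hrs, hk⟩ := hloc y
  obtain ⟨V, hV, hyV, -⟩ := exists_isAffineOpen_mem_and_subset (x := q (i y)) (U := ⊤) trivial
  obtain ⟨a, hale, hya⟩ := hU₀.exists_basicOpen_le (V := U₀ ⊓ q ⁻¹ᵁ V) ⟨i y, ⟨hyU₀, hyV⟩⟩ hyU₀
  have hU : IsAffineOpen (X.basicOpen a) := hU₀.basicOpen a
  have e : X.basicOpen a ≤ q ⁻¹ᵁ V := hale.trans inf_le_right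
  refine ⟨X.basicOpen a, hU, V, hV, e, hya, ?_⟩
  haveI := hU₀.isLocalization_basicOpen a
  haveI : Module.Flat Γ(X, U₀) Γ(X, X.basicOpen a) := IsLocalization.flat _ (Submonoid.powers a)
  let f : Fin rs.length → Γ(X, X.basicOpen a) := fun k => algebraMap Γ(X, U₀) _ (rs.get k)
  have hf : IsExactK f :=
    KRLib.isExactK_of_flat (R := Γ(X, X.basicOpen a)) (KRLib.isExactK_of_isWeaklyRegular rs hrs.toIsWeaklyRegular)
  have hspan : Ideal.span (Set.range f) = i.ker.ideal ⟨X.basicOpen a, hU⟩ := by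
    refine Eq.trans ?_ (i.ker.map_ideal_basicOpen ⟨U₀, hU₀⟩ a)
    rw [hk, Ideal.ofList, Ideal.map_span]
    congr 1
    rw [show {x | x ∈ rs} = Set.range rs.get from (Set.range_list_get rs).symm, ← Set.range_comp]
    rfl
  have hsm := HasRingHomProperty.appLE (P := @Smooth) q inferInstance ⟨V, hV⟩ ⟨X.basicOpen a, hU⟩ e
  refine ⟨rs.length, f, hf, hspan, hsm, ?_⟩
  have hWY : IsAffineOpen (i ⁻¹ᵁ X.basicOpen a) := hU.preimage i
  have e' : i ⁻¹ᵁ X.basicOpen a ≤ (i ≫ q) ⁻¹ᵁ V := (i.preimage_mono e).trans_eq (Scheme.Hom.comp_preimage i q V).symm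
  have hl := HasRingHomProperty.appLE (P := @Smooth) (i ≫ q) inferInstance ⟨V, hV⟩ ⟨i ⁻¹ᵁ X.basicOpen a, hWY⟩ e'
  rw [← Scheme.Hom.appLE_comp_appLE i q V (X.basicOpen a) (i ⁻¹ᵁ X.basicOpen a) e le_rfl, CommRingCat.hom_comp] at hl
  letI := (q.appLE V (X.basicOpen a) e).hom.toAlgebra
  letI := ((i.appLE (X.basicOpen a) (i ⁻¹ᵁ X.basicOpen a) le_rfl).hom.comp (q.appLE V (X.basicOpen a) e).hom).toAlgebra
  let σ : Γ(X, X.basicOpen a) →ₐ[Γ(S, V)] Γ(Z, i ⁻¹ᵁ X.basicOpen a) :=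
    { (i.appLE (X.basicOpen a) (i ⁻¹ᵁ X.basicOpen a) le_rfl).hom with commutes' := fun _ => rfl }
  have hσ : Function.Surjective σ := by
    show Function.Surjective (i.appLE (X.basicOpen a) (i ⁻¹ᵁ X.basicOpen a) le_rfl).hom
    rw [← Scheme.Hom.app_eq_appLE]
    exact i.app_surjective _ hU
  have hker : Ideal.span (Set.range f) = RingHom.ker σ.toRingHom := by
    rw [hspan, Scheme.Hom.ker_apply, Scheme.Hom.app_eq_appLE]
  haveI : Algebra.Smooth Γ(S, V) Γ(Z, i ⁻¹ᵁ X.basicOpen a) := hl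
  exact Algebra.FormallySmooth.of_equiv
    ((Ideal.quotientEquivAlgOfEq Γ(S, V) hker).trans (Ideal.quotientKerAlgEquivOfSurjective hσ)).symm

theorem smooth_blowUp {Z X X' S : Scheme.{u}} (q : X ⟶ S) [Smooth q] (i : Z ⟶ X) [IsClosedImmersion i]
    [Smooth (i ≫ q)] (b : X' ⟶ X) (hb : BlowUp.IsBlowUp b i.ker) : Smooth (b ≫ q) := by
  have hex : ∀ x : X', ∃ (T : Scheme.{u}) (c : T ⟶ X'), IsOpenImmersion c ∧ x ∈ Set.range c ∧ Smooth (c ≫ b ≫ q) := by
    intro x
    by_cases hx : b x ∈ i.ker.support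
    · obtain ⟨y, hy⟩ : b x ∈ Set.range i := by
        have h2 : b x ∈ closure (Set.range i) := by
          have h3 : (i.ker.support : Set X) = closure (Set.range i) := by rw [Scheme.Hom.support_ker i]
          exact h3 ▸ hx
        rwa [i.isClosedEmbedding.isClosed_range.closure_eq] at h2
      obtain ⟨U, hU, V, hV, e, hyU, r, f, hf, hfI, hsm, hfs⟩ := exists_smooth_pair_chart q i y
      let A := Γ(X, U)
      let I : Ideal A := i.ker.ideal ⟨U, hU⟩
      have hP : BlowUp.IsBlowUp (pullback.fst hU.fromSpec b) (BlowUpLib.specIdeal (A := A) I) :=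
        BlowUpLib.comap_fromSpec i.ker ⟨U, hU⟩ ▸
          BlowUpLib.isBlowUp_of_isPullback (IsPullback.of_hasPullback hU.fromSpec b).flip hb
      obtain ⟨u₀, hu₀⟩ : b x ∈ Set.range hU.fromSpec := hU.range_fromSpec.symm ▸ hy ▸ hyU
      obtain ⟨z, -, hz⟩ := Scheme.Pullback.exists_preimage_pullback (f := hU.fromSpec) (g := b) u₀ x hu₀
      obtain ⟨_, ⟨j, rfl⟩, c, _, ⟨p, hp⟩, hc⟩ :=
        BlowUpLib.exists_chart_spec_of_span I (Set.range f) hfI hP z
      refine ⟨_, c ≫ pullback.snd hU.fromSpec b, inferInstance, ⟨p, by rw [Scheme.Hom.comp_apply, hp, hz]⟩, ?_⟩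
      letI := (q.appLE V U e).hom.toAlgebra
      haveI : Algebra.Smooth Γ(S, V) A := hsm
      haveI := hfs
      have hC : Algebra.Smooth Γ(S, V) (BlowUp.affineAlgebra A I (f j)) := by
        rw [show I = Ideal.span (Set.range f) from hfI.symm]
        exact smooth_chart f hf j
      rw [Category.assoc, ← pullback.condition_assoc, reassoc_of% hc, ← hV.SpecMap_appLE_fromSpec q hU e,
        ← Spec.map_comp_assoc]
      refine MorphismProperty.comp_mem @Smooth _ _ ?_ inferInstance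
      rw [HasRingHomProperty.Spec_iff (P := @Smooth)]
      have e2 : (q.appLE V U e ≫ CommRingCat.ofHom (algebraMap A (BlowUp.affineAlgebra A I (f j)))).hom =
          algebraMap Γ(S, V) (BlowUp.affineAlgebra A I (f j)) := RingHom.ext fun _ => rfl
      rw [e2, RingHom.smooth_algebraMap]
      exact hC
    · let W : X.Opens := i.ker.support.compl
      haveI := EffCartLib.isIso_off_center i.ker b hb W le_rfl
      refine ⟨_, (b ⁻¹ᵁ W).ι, inferInstance, ⟨⟨x, hx⟩, rfl⟩, ?_⟩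
      rw [← morphismRestrict_ι_assoc]
      infer_instance
  choose T c hc hx hsm using hex
  let 𝒰 : X'.OpenCover := Scheme.Cover.mkOfCovers X' T c (fun x => ⟨x, hx x⟩) hc
  exact (IsZariskiLocalAtSource.iff_of_openCover (P := @Smooth) 𝒰).mpr hsm

theorem smooth_exceptional {Z X X' S : Scheme.{u}} (q : X ⟶ S) [Smooth q] (i : Z ⟶ X) [IsClosedImmersion i]
    [Smooth (i ≫ q)] (b : X' ⟶ X) (hb : BlowUp.IsBlowUp b i.ker) :
    Smooth ((BlowUp.exceptional b i.ker).subschemeι ≫ b ≫ q) := by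
  let ι := (BlowUp.exceptional b i.ker).subschemeι
  have hle : i.ker ≤ (ι ≫ b).ker := by
    rw [Scheme.Hom.ker_comp, Scheme.IdealSheafData.le_map_iff_comap_le, Scheme.IdealSheafData.ker_subschemeι]
  haveI := BlowUpLib.smooth_exceptional i (RelRegLib.isRegularClosedImmersion_of_syntomic q i
    ((TransLib.isSyntomicMor_iff _).2 (TransLib.syntMor_of_smooth (i ≫ q)))) b hb
    (IsClosedImmersion.lift i (ι ≫ b) hle) (IsClosedImmersion.lift_fac _ _ _)
  have : ι ≫ b ≫ q = IsClosedImmersion.lift i (ι ≫ b) hle ≫ i ≫ q := by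
    rw [IsClosedImmersion.lift_fac_assoc, Category.assoc]
  rw [this]
  infer_instance

end BlowSmoothLib
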